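import Groth.Agent.H4.Lang.KerPts
import Mathlib.AlgebraicGeometry.Morphisms.Etale
import Mathlib.AlgebraicGeometry.Morphisms.FlatMono
import Groth.Agent.Lib.GrpSch.SmoothReduced

/-! Field-valued points of an etale kernel are rational. -/

set_option autoImplicit false
set_option linter.style.haveILetI false

universe u

open CategoryTheory CategoryTheory.Limits MonoidalCategory CartesianMonoidalCategory AlgebraicGeometry
open scoped MonObj GrpObj

namespace Groth.Agent.H4.Lang

variable {k : Type u} [Field k] [IsAlgClosed k] {Y A : Over (Spec (CommRingCat.of k))} [GrpObj A]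

theorem kerPtsEquiv_apply (φ : Y ⟶ A) [IsFinite φ.left]
    (P : {P : Over.mk (𝟙 (Spec (CommRingCat.of k))) ⟶ Y // P ≫ φ = 1}) :
    pullback.lift P.1.left (𝟙 _) (by
      have h1 := congrArg Over.Hom.left (P.2.trans (Hom.one_def (X := Over.mk (𝟙 (Spec (CommRingCat.of k)))) (M := A)))
      rw [Over.comp_left, Over.comp_left, Over.toUnit_left] at h1
      exact h1) (IsLocalRing.closedPoint k) = kerPtsEquiv φ P := rfl

/-- A field-valued point of a finite etale kernel is the pullback of the rational point below it. -/
theorem eq_of_kerPt (φ : Y ⟶ A) [IsFinite φ.left] [Etale φ.left] {Ω : Type u} [Field Ω]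
    {b : Spec (CommRingCat.of Ω) ⟶ Spec (CommRingCat.of k)} (x : Over.mk b ⟶ Y) (hx : x ≫ φ = 1)
    (a : 𝟙_ (Over (Spec (CommRingCat.of k))) ⟶ Y) (ha : a ≫ φ = 1)
    (h : pullback.lift (f := φ.left) (g := η[A].left) a.left (𝟙 _) (by
        have h1 := congrArg Over.Hom.left (ha.trans (Hom.one_def (X := 𝟙_ (Over (Spec (CommRingCat.of k)))) (M := A)))
        rw [Over.comp_left, Over.comp_left, Over.toUnit_left] at h1
        exact h1) (IsLocalRing.closedPoint k) =
      pullback.lift (f := φ.left) (g := η[A].left) x.left (toUnit (Over.mk b)).left (by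
        rw [← Over.comp_left, ← Over.comp_left, hx, Hom.one_def]) (IsLocalRing.closedPoint Ω)) :
    x = toUnit (Over.mk b) ≫ a := by
  let N := pullback φ.left η[A].left
  let q := pullback.snd φ.left η[A].left
  haveI : IsFinite q := inferInstance
  haveI : Finite ↥N :=
    Set.finite_univ_iff.1 (q.finite_preimage_singleton
      (IsLocalRing.closedPoint k) |>.subset fun z _ => Subsingleton.elim (α := PrimeSpectrum k) _ _)
  haveI : JacobsonSpace ↥(𝟙_ (Over (Spec (CommRingCat.of k)))).left :=
    inferInstanceAs (JacobsonSpace (PrimeSpectrum k))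
  haveI : JacobsonSpace ↥N := LocallyOfFiniteType.jacobsonSpace q
  haveI : Etale (show N ⟶ Spec (CommRingCat.of k) from q) := inferInstanceAs (Etale q)
  haveI : IsReduced N := Groth.Agent.Lib.GrpSch.isReduced_of_smooth_field (show N ⟶ Spec (CommRingCat.of k) from q)
  let sx := pullback.lift (f := φ.left) (g := η[A].left) x.left (toUnit (Over.mk b)).left (by
    rw [← Over.comp_left, ← Over.comp_left, hx, Hom.one_def])
  let sa := pullback.lift (f := φ.left) (g := η[A].left) a.left (𝟙 _) (by
    have h1 := congrArg Over.Hom.left (ha.trans (Hom.one_def (X := 𝟙_ (Over (Spec (CommRingCat.of k)))) (M := A)))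
    rw [Over.comp_left, Over.comp_left, Over.toUnit_left] at h1
    exact h1)
  haveI : IsSeparated q := inferInstance
  haveI : IsClosedImmersion (sa ≫ q) := by rw [pullback.lift_snd]; infer_instance
  haveI : IsClosedImmersion sa := IsClosedImmersion.of_comp sa q
  have hop : IsOpen (Set.range sa) := isOpen_discrete _
  haveI : Etale (sa ≫ q) := by rw [pullback.lift_snd]; infer_instance
  haveI : Etale sa := Etale.of_comp sa q
  haveI : IsOpenImmersion sa := IsOpenImmersion.of_flat_of_mono sa
  have hrange : Set.range sx ⊆ Set.range sa := by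
    rintro _ ⟨v, rfl⟩
    exact ⟨(IsLocalRing.closedPoint k : Spec (CommRingCat.of k)), by
      rw [h, Subsingleton.elim (α := PrimeSpectrum Ω) v (IsLocalRing.closedPoint Ω)]⟩
  let l := IsOpenImmersion.lift sa sx hrange
  have hl : l ≫ sa = sx := IsOpenImmersion.lift_fac _ _ _
  have hl2 : l = (toUnit (Over.mk b)).left := by
    have := congrArg (· ≫ q) hl
    simp only [Category.assoc, q, sa, sx, pullback.lift_snd, Category.comp_id] at this
    exact this
  apply Over.OverMorphism.ext
  rw [Over.comp_left, ← hl2, show x.left = sx ≫ pullback.fst _ _ from (pullback.lift_fst _ _ _).symm, ← hl,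
    Category.assoc, pullback.lift_fst]

end Groth.Agent.H4.Lang
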